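import Groth.Agent.FittX.Free
import Groth.Agent.QCoh.Support
import Groth.Agent.RingPO.Props2
import Groth.Agent.ModPairLib.Basic
import Groth.Prelude.Def_Fitting
import Groth.Prelude.Def_Mor2

/-!
# Fitting ideal sheaves of finite morphisms
-/

set_option autoImplicit false
set_option backward.isDefEq.respectTransparency false
set_option backward.isDefEq.respectTransparency.types false
set_option linter.style.haveILetI false

universe u

open CategoryTheory CategoryTheory.Limits AlgebraicGeometry TopologicalSpace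

namespace Groth.Agent.GrpdFitt

/-- The Fitting ideal of an algebra as a module. -/
def fittAlg {A B : CommRingCat.{u}} (φ : A ⟶ B) (r : ℕ) : Ideal A :=
  letI := φ.hom.toAlgebra
  Fitt.ideal A B r

/-- The Fitting ideal of an algebra commutes with base change. -/
theorem fittAlg_of_isPushout {A A' B B' : CommRingCat.{u}} {g : A ⟶ A'} {φ : A ⟶ B} {φ' : A' ⟶ B'}
    {c : B ⟶ B'} (h : IsPushout g φ φ' c) (hfin : φ.hom.Finite) (r : ℕ) :
    fittAlg φ' r = (fittAlg φ r).map g.hom := by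
  algebraize [g.hom, φ.hom, φ'.hom, c.hom, φ'.hom.comp g.hom]
  haveI : IsScalarTower A B B' := IsScalarTower.of_algebraMap_eq' (congrArg CommRingCat.Hom.hom h.w)
  haveI hpo : Algebra.IsPushout A A' B B' := CommRingCat.isPushout_iff_isPushout.1 h
  exact FittX.ideal_baseChange hpo.out r

theorem isBaseChange_of_isPushout {A A' B B' : CommRingCat.{u}} {g : A ⟶ A'} {φ : A ⟶ B} {φ' : A' ⟶ B'}
    {c : B ⟶ B'} (h : IsPushout g φ φ' c) :
    letI := g.hom.toAlgebra
    letI := φ.hom.toAlgebra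
    letI := φ'.hom.toAlgebra
    letI := c.hom.toAlgebra
    letI := (φ'.hom.comp g.hom).toAlgebra
    haveI : IsScalarTower A B B' := IsScalarTower.of_algebraMap_eq' (congrArg CommRingCat.Hom.hom h.w)
    haveI : IsScalarTower A A' B' := IsScalarTower.of_algebraMap_eq' rfl
    IsBaseChange A' (IsScalarTower.toAlgHom A B B').toLinearMap := by
  algebraize [g.hom, φ.hom, φ'.hom, c.hom, φ'.hom.comp g.hom]
  haveI : IsScalarTower A B B' := IsScalarTower.of_algebraMap_eq' (congrArg CommRingCat.Hom.hom h.w)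
  haveI hpo : Algebra.IsPushout A A' B B' := CommRingCat.isPushout_iff_isPushout.1 h
  exact hpo.out

variable {X U : Scheme.{u}} (π : X ⟶ U)

/-- The map on sections over an open of the base. -/
abbrev secMap (V : U.Opens) : Γ(U, V) ⟶ Γ(X, π ⁻¹ᵁ V) := π.appLE V (π ⁻¹ᵁ V) le_rfl

theorem isPushout_secMap [IsAffineHom π] {X' T : Scheme.{u}} {q : X' ⟶ X} {π' : X' ⟶ T} {f : T ⟶ U}
    (h : IsPullback q π' π f) {V : U.Opens} (hV : IsAffineOpen V) {W : T.Opens} (hW : IsAffineOpen W)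
    (e : W ≤ f ⁻¹ᵁ V) :
    ∃ c, IsPushout (f.appLE V W e) (secMap π V) (secMap π' W) c := by
  haveI : IsAffineHom π' := MorphismProperty.of_isPullback h inferInstance
  have ec : π' ⁻¹ᵁ W ≤ q ⁻¹ᵁ (π ⁻¹ᵁ V) := by
    rw [← Scheme.Hom.comp_preimage, h.w, Scheme.Hom.comp_preimage]
    exact π'.preimage_mono e
  exact ⟨_, RingPO.isPushout_appLE_of_isPullback h.flip hV hW e (hV.preimage π) rfl (hW.preimage π') rfl ec⟩

variable [IsFinite π]

theorem finite_secMap {V : U.Opens} (hV : IsAffineOpen V) : (secMap π V).hom.Finite := by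
  rw [secMap, ← Scheme.Hom.app_eq_appLE]
  exact π.finite_app V hV

/-- The Fitting ideal sheaf of a finite morphism. -/
def fittMor (r : ℕ) : U.IdealSheafData where
  ideal V := fittAlg (secMap π V.1) r
  map_ideal_basicOpen V f := by
    obtain ⟨c, hc⟩ := isPushout_secMap π (f := 𝟙 U) (q := 𝟙 X) (π' := π)
      (IsPullback.of_horiz_isIso ⟨by rw [Category.id_comp, Category.comp_id]⟩) V.2 (V.2.basicOpen f)
      (U.basicOpen_le f)
    have := fittAlg_of_isPushout hc (finite_secMap π V.2) r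
    have hid : Scheme.Hom.appLE (𝟙 U) V.1 (U.basicOpen f) (U.basicOpen_le f) =
        U.presheaf.map (homOfLE (U.basicOpen_le f)).op := by
      simp [Scheme.Hom.appLE]
    rw [hid] at this
    exact this.symm

theorem fittMor_ideal (r : ℕ) (V : U.affineOpens) : (fittMor π r).ideal V = fittAlg (secMap π V.1) r := rfl

theorem eq_of_cover {I J : U.IdealSheafData}
    (h : ∀ x : U, ∃ V : U.affineOpens, x ∈ V.1 ∧ I.ideal V = J.ideal V) : I = J := by
  choose V hx hV using h
  exact Scheme.IdealSheafData.ext_of_iSup_eq_top V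
    (top_le_iff.1 fun x _ => Opens.mem_iSup.2 ⟨x, hx x⟩) hV

theorem fittMor_comap {X' T : Scheme.{u}} {q : X' ⟶ X} {π' : X' ⟶ T} {f : T ⟶ U} [IsFinite π']
    (h : IsPullback q π' π f) (r : ℕ) : (fittMor π r).comap f = fittMor π' r := by
  refine eq_of_cover fun t => ?_
  obtain ⟨V, hV, hxV, -⟩ := exists_isAffineOpen_mem_and_subset (show f t ∈ (⊤ : U.Opens) from trivial)
  obtain ⟨W, hW, htW, hWV⟩ := exists_isAffineOpen_mem_and_subset (show t ∈ f ⁻¹ᵁ V from hxV)
  refine ⟨⟨W, hW⟩, htW, ?_⟩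
  rw [ModPairLib.ideal_comap _ f ⟨V, hV⟩ ⟨W, hW⟩ hWV]
  obtain ⟨c, hc⟩ := isPushout_secMap π h hV hW hWV
  exact (fittAlg_of_isPushout hc (finite_secMap π hV) r).symm

theorem fittMor_mono {k l : ℕ} (h : k ≤ l) : fittMor π k ≤ fittMor π l := by
  intro V
  letI := (secMap π V.1).hom.toAlgebra
  haveI : Module.Finite Γ(U, V.1) Γ(X, π ⁻¹ᵁ V.1) := finite_secMap π V.2
  exact FittX.ideal_mono h

/-- With a section, the zeroth Fitting ideal vanishes. -/
theorem fittMor_zero (σ : U ⟶ X) (hσ : σ ≫ π = 𝟙 U) : fittMor π 0 = ⊥ := by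
  refine le_bot_iff.1 fun V => ?_
  letI := (secMap π V.1).hom.toAlgebra
  haveI : Module.Finite Γ(U, V.1) Γ(X, π ⁻¹ᵁ V.1) := finite_secMap π V.2
  intro a ha
  have h1 := Module.mem_annihilator.1 (FittX.ideal_annihilator ha) (1 : Γ(X, π ⁻¹ᵁ V.1))
  rw [← Algebra.algebraMap_eq_smul_one] at h1
  have e : V.1 ≤ σ ⁻¹ᵁ (π ⁻¹ᵁ V.1) := by rw [← Scheme.Hom.comp_preimage, hσ]; exact le_rfl
  have h2 := congrArg (σ.appLE (π ⁻¹ᵁ V.1) V.1 e).hom h1
  rw [map_zero] at h2
  have h3 : secMap π V.1 ≫ σ.appLE (π ⁻¹ᵁ V.1) V.1 e = 𝟙 _ := by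
    rw [secMap, Scheme.Hom.appLE_comp_appLE]
    generalize_proofs p₁
    revert p₁
    rw [hσ]
    intro p₁
    simp [Scheme.Hom.appLE]
    exact CategoryTheory.Functor.map_id _ _
  have h4 : a = 0 := (congrArg (fun φ => φ.hom a) h3).symm.trans h2
  simpa using h4

theorem mem_support_fittMor (r : ℕ) {V : U.Opens} (hV : IsAffineOpen V) {x : U} (hx : x ∈ V) :
    x ∈ (fittMor π r).support ↔ fittAlg (secMap π V) r ≤ (hV.primeIdealOf ⟨x, hx⟩).asIdeal := by
  rw [Scheme.IdealSheafData.mem_support_iff_of_mem (U := ⟨V, hV⟩) hx, fittMor_ideal,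
    Scheme.mem_zeroLocus_iff]
  have key := QCoh.mem_basicOpen_iff_notMem hV hx
  exact ⟨fun h a ha => by_contra fun hn => h a ha ((key a).2 hn),
    fun h a ha hxa => (key a).1 hxa (h ha)⟩

theorem exists_not_mem_support (x : U) : ∃ r, x ∉ (fittMor π r).support := by
  obtain ⟨V, hV, hx, -⟩ := exists_isAffineOpen_mem_and_subset (show x ∈ (⊤ : U.Opens) from trivial)
  letI := (secMap π V).hom.toAlgebra
  haveI : Module.Finite Γ(U, V) Γ(X, π ⁻¹ᵁ V) := finite_secMap π hV
  obtain ⟨n, g, hg⟩ := FittX.exists_gen Γ(U, V) Γ(X, π ⁻¹ᵁ V)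
  refine ⟨n, fun h => ?_⟩
  rw [mem_support_fittMor π n hV hx] at h
  exact (hV.primeIdealOf ⟨x, hx⟩).isPrime.ne_top
    (top_le_iff.1 ((FittX.ideal_eq_top_of_gen g hg le_rfl).ge.trans h))

theorem fg_fittMor [LocallyOfFinitePresentation π] (r : ℕ) (V : U.affineOpens) :
    ((fittMor π r).ideal V).FG := by
  letI := (secMap π V.1).hom.toAlgebra
  haveI : Module.Finite Γ(U, V.1) Γ(X, π ⁻¹ᵁ V.1) := finite_secMap π V.2
  haveI : Algebra.FinitePresentation Γ(U, V.1) Γ(X, π ⁻¹ᵁ V.1) :=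
    HasRingHomProperty.appLE @LocallyOfFinitePresentation π inferInstance V ⟨_, V.2.preimage π⟩ le_rfl
  haveI : Module.FinitePresentation Γ(U, V.1) Γ(X, π ⁻¹ᵁ V.1) :=
    Module.FinitePresentation.of_finite_of_finitePresentation _ _
  exact FittX.ideal_fg r

end Groth.Agent.GrpdFitt
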