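import Groth.Agent.GrpdFitt.Basic
import Mathlib.AlgebraicGeometry.Morphisms.FlatRank

/-!
# Finite morphisms with Fitting ideals zero and one are locally free
-/

set_option autoImplicit false
set_option backward.isDefEq.respectTransparency false
set_option backward.isDefEq.respectTransparency.types false
set_option linter.style.haveILetI false

universe u

open CategoryTheory CategoryTheory.Limits AlgebraicGeometry TopologicalSpace

namespace Groth.Agent.GrpdFitt

variable {X U : Scheme.{u}} (π : X ⟶ U) [IsFinite π]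

theorem exists_free_nbhd {n : ℕ} (h0 : ∀ k, k < n → fittMor π k = ⊥) (h1 : fittMor π n = ⊤) (x : U) :
    ∃ D : U.Opens, x ∈ D ∧ IsAffineOpen D ∧
      (letI := (secMap π D).hom.toAlgebra
       Nonempty (Module.Basis (Fin n) Γ(U, D) Γ(X, π ⁻¹ᵁ D))) := by
  obtain ⟨V, hV, hx, -⟩ := exists_isAffineOpen_mem_and_subset (show x ∈ (⊤ : U.Opens) from trivial)
  letI := (secMap π V).hom.toAlgebra
  haveI : Module.Finite Γ(U, V) Γ(X, π ⁻¹ᵁ V) := finite_secMap π hV
  let p := hV.primeIdealOf ⟨x, hx⟩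
  have hI : ∀ k, (fittMor π k).ideal ⟨V, hV⟩ = Fitt.ideal Γ(U, V) Γ(X, π ⁻¹ᵁ V) k := fun k => rfl
  haveI := p.isPrime
  have hnle : ¬ Fitt.ideal Γ(U, V) Γ(X, π ⁻¹ᵁ V) n ≤ p.asIdeal := by
    rw [← hI, h1, Scheme.IdealSheafData.ideal_top, Pi.top_apply, top_le_iff]
    exact p.isPrime.ne_top
  obtain ⟨d, hd, -, g, hg⟩ := FittX.exists_smul_mem_span hnle
  refine ⟨U.basicOpen d, (QCoh.mem_basicOpen_iff_notMem hV hx d).2 hd, hV.basicOpen d, ?_⟩
  obtain ⟨c, hc⟩ := isPushout_secMap π (f := 𝟙 U) (q := 𝟙 X) (π' := π)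
    (IsPullback.of_horiz_isIso ⟨by rw [Category.id_comp, Category.comp_id]⟩) hV (hV.basicOpen d)
    (U.basicOpen_le d)
  have hbc := isBaseChange_of_isPushout hc
  algebraize [(Scheme.Hom.appLE (𝟙 U) V (U.basicOpen d) (U.basicOpen_le d)).hom, c.hom,
    (secMap π (U.basicOpen d)).hom,
    (secMap π (U.basicOpen d)).hom.comp (Scheme.Hom.appLE (𝟙 U) V (U.basicOpen d) (U.basicOpen_le d)).hom]
  haveI : IsScalarTower Γ(U, V) Γ(X, π ⁻¹ᵁ V) Γ(X, π ⁻¹ᵁ U.basicOpen d) :=
    IsScalarTower.of_algebraMap_eq' (congrArg CommRingCat.Hom.hom hc.w)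
  haveI : Module.Finite Γ(U, U.basicOpen d) Γ(X, π ⁻¹ᵁ U.basicOpen d) := finite_secMap π (hV.basicOpen d)
  have hu : IsUnit (algebraMap Γ(U, V) Γ(U, U.basicOpen d) d) := by
    show IsUnit ((Scheme.Hom.appLE (𝟙 U) V (U.basicOpen d) (U.basicOpen_le d)).hom d)
    have : Scheme.Hom.appLE (𝟙 U) V (U.basicOpen d) (U.basicOpen_le d) =
        U.presheaf.map (homOfLE (U.basicOpen_le d)).op := by simp [Scheme.Hom.appLE]
    rw [this]
    exact RingedSpace.isUnit_res_basicOpen U.toRingedSpace d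
  have hspan := FittX.span_eq_top_of_smul_mem hbc hu hg
  have hbot : ∀ j, j < n → Fitt.ideal Γ(U, U.basicOpen d) Γ(X, π ⁻¹ᵁ U.basicOpen d) j = ⊥ := fun j hj => by
    show (fittMor π j).ideal ⟨_, hV.basicOpen d⟩ = ⊥
    rw [h0 j hj, Scheme.IdealSheafData.ideal_bot, Pi.bot_apply]
  exact ⟨Module.Basis.mk (FittX.linearIndependent_of_ideal_eq_bot _ hspan hbot) hspan.ge⟩

/-- A finite morphism whose Fitting ideals are `0` below `n` and `1` from `n` on is finite locally free
of degree `n`. -/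
theorem isFinLocFreeOfDeg {n : ℕ} (h0 : ∀ k, k < n → fittMor π k = ⊥) (h1 : fittMor π n = ⊤) :
    Mor2.IsFinLocFreeOfDeg n π := by
  choose D hxD hD hb using exists_free_nbhd π h0 h1
  have hcov : iSup D = ⊤ := top_le_iff.1 fun x _ => Opens.mem_iSup.2 ⟨x, hxD x⟩
  have key : ∀ x, IsPullback (Spec.map (secMap π (D x))) ((hD x).preimage π).fromSpec (hD x).fromSpec π :=
    fun x => (RingPO.isPullback_fromSpec' π (hD x) ((hD x).preimage π) rfl).flip
  have hprops : ∀ x, (secMap π (D x)).hom.Finite ∧ (secMap π (D x)).hom.Flat ∧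
      (secMap π (D x)).hom.FinitePresentation ∧ ∀ y, (secMap π (D x)).hom.finrank y = n := by
    intro x
    letI := (secMap π (D x)).hom.toAlgebra
    obtain ⟨b⟩ := hb x
    haveI := Module.Free.of_basis b
    haveI := Module.Finite.of_basis b
    haveI : Module.FinitePresentation Γ(U, D x) Γ(X, π ⁻¹ᵁ D x) := Module.finitePresentation_of_projective _ _
    refine ⟨finite_secMap π (hD x), RingHom.flat_algebraMap_iff.2 (inferInstance : Module.Flat _ _), ?_, fun y => ?_⟩
    · exact RingHom.finitePresentation_algebraMap.2 (Algebra.FinitePresentation.of_finitePresentation _ _)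
    · show Module.rankAtStalk (R := Γ(U, D x)) Γ(X, π ⁻¹ᵁ D x) y = n
      haveI : Nontrivial Γ(U, D x) := y.nontrivial
      rw [Module.rankAtStalk_eq_finrank_of_free, Pi.natCast_apply, Module.finrank_eq_card_basis b,
        Fintype.card_fin]
      rfl
  have hF : ∀ (P : MorphismProperty Scheme.{u}) [IsZariskiLocalAtTarget P] [P.RespectsIso],
      (∀ x, P (Spec.map (secMap π (D x)))) → P π := by
    intro P _ _ h
    refine IsZariskiLocalAtTarget.of_iSup_eq_top D hcov fun x => ?_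
    have sq := (key x).flip
    have h2 : P (Spec.map (secMap π (D x))) := h x
    let e₁ := ((hD x).preimage π).isoSpec
    have hw : (π ∣_ D x) = e₁.hom ≫ Spec.map (secMap π (D x)) ≫ (hD x).isoSpec.inv := by
      rw [← cancel_mono (D x).ι]
      simp only [Category.assoc, morphismRestrict_ι, IsAffineOpen.isoSpec_inv_ι]
      rw [← sq.w, ← IsAffineOpen.isoSpec_inv_ι, Category.assoc, e₁.hom_inv_id_assoc]
    rw [hw, P.cancel_left_of_respectsIso, P.cancel_right_of_respectsIso]
    exact h2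
  have hfin : Flat π := hF @Flat fun x => (HasRingHomProperty.Spec_iff (P := @Flat)).2 (hprops x).2.1
  haveI := hfin
  have hlfp : LocallyOfFinitePresentation π := hF @LocallyOfFinitePresentation fun x =>
    (LocallyOfFinitePresentation.SpecMap_iff _).2 (hprops x).2.2.1
  refine ⟨⟨inferInstance, hfin, hlfp⟩, fun y => ?_⟩
  obtain ⟨z, hz⟩ : y ∈ Set.range (hD y).fromSpec := by rw [(hD y).range_fromSpec]; exact hxD y
  rw [← hz, ← Scheme.Hom.finrank_of_isPullback _ _ π (hD y).fromSpec (key y).flip z,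
    Scheme.Hom.finrank_SpecMap_eq_finrank (hprops y).1 (hprops y).2.1]
  exact (hprops y).2.2.2 z

end Groth.Agent.GrpdFitt
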