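import Groth.Agent.GrpdFitt.ThickenFP
import Groth.Agent.GrpdLib.InvGeneric
import Groth.Agent.GrpdLib.Restrict
import Groth.Agent.AffineNhd.Glue

/-!
# Invariant affine thickened neighbourhoods of generic orbits
-/

set_option autoImplicit false
set_option backward.isDefEq.respectTransparency false
set_option backward.isDefEq.respectTransparency.types false
set_option linter.style.haveILetI false
set_option linter.unusedSectionVars false

universe u

open CategoryTheory CategoryTheory.Limits AlgebraicGeometry TopologicalSpace Grpd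

namespace Groth.Agent.GrpdFitt

/-- Finitely many maximal points of a quasi-separated scheme lie in an affine open inside any open
containing them. -/
theorem exists_affineOpen_of_maximal {X : Scheme.{u}} [QuasiSeparatedSpace X] (W : X.Opens) (T : Finset X)
    (hW : ∀ x ∈ T, x ∈ W) (hmax : ∀ x ∈ T, ∀ y : X, y ⤳ x → y = x) :
    ∃ A : X.Opens, IsAffineOpen A ∧ A ≤ W ∧ ∀ x ∈ T, x ∈ A := by
  classical
  induction T using Finset.induction with
  | empty => exact ⟨⊥, isAffineOpen_bot X, bot_le, fun x hx => by simp at hx⟩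
  | insert x T _ ih =>
    obtain ⟨A, hA, hAW, hTA⟩ := ih (fun y hy => hW y (Finset.mem_insert_of_mem hy))
      (fun y hy => hmax y (Finset.mem_insert_of_mem hy))
    by_cases hx : x ∈ A
    · exact ⟨A, hA, hAW, fun y hy => (Finset.mem_insert.1 hy).elim (fun e => e ▸ hx) (hTA y)⟩
    have hxc : x ∉ closure (A : Set X) := fun h => by
      obtain ⟨z, hz, -, hzx⟩ := AffineNhd.exists_specializes_of_mem_closure_diff (P := ⊥) hA.isCompact
        (show x ∈ closure ((A : Set X) \ ((⊥ : X.Opens) : Set X)) by simpa using h)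
      exact hx (hmax x (Finset.mem_insert_self ..) z hzx ▸ hz)
    obtain ⟨B, hB, hxB, hBW⟩ := exists_isAffineOpen_mem_and_subset
      (show x ∈ W ⊓ ⟨(closure (A : Set X))ᶜ, isClosed_closure.isOpen_compl⟩ from
        ⟨hW x (Finset.mem_insert_self ..), hxc⟩)
    refine ⟨A ⊔ B, hA.sup_of_disjoint hB ?_, sup_le hAW (hBW.trans inf_le_left), fun y hy => ?_⟩
    · rw [← Opens.coe_disjoint]
      exact Set.disjoint_left.2 fun y hyA hyB => (hBW hyB).2 (subset_closure hyA)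
    · exact (Finset.mem_insert.1 hy).elim (fun e => e ▸ Or.inr hxB) fun h => Or.inl (hTA y h)

variable {S : Scheme.{u}} (G : GroupoidScheme S) [IsFinite G.s] [IsFinite G.t] [LocallyOfFinitePresentation G.s]

/-- Finitely many points with generic orbits lie in an invariant affine open contained in any given
invariant open containing them. -/
theorem exists_invariant_affine_le [QuasiSeparatedSpace G.U] (W : G.U.Opens) (hinv : GrpdLib.IsInv G W) (O : Set G.U)
    (hO : O.Finite) (horb : ∀ r : G.R, G.s r ∈ O → G.t r ∈ O) (hmax : ∀ x ∈ O, ∀ y : G.U, y ⤳ x → y = x)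
    (hOW : O ⊆ W) :
    ∃ V : G.U.Opens, IsAffineOpen V ∧ O ⊆ V ∧ GrpdLib.IsInv G V ∧ V ≤ W := by
  obtain ⟨A, hA, hAW, hOA⟩ := exists_affineOpen_of_maximal W hO.toFinset
    (fun x hx => hOW (hO.mem_toFinset.1 hx)) (fun x hx => hmax x (hO.mem_toFinset.1 hx))
  set W₁ := GrpdLib.invCore G A
  have hW₁ : GrpdLib.IsInv G W₁ := GrpdLib.isInv_invCore A
  let G' := GrpdLib.restrict G W₁ hW₁
  haveI : IsFinite G'.s := IsZariskiLocalAtTarget.restrict ‹IsFinite G.s› W₁
  haveI : LocallyOfFinitePresentation G'.s := IsZariskiLocalAtTarget.restrict ‹_› W₁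
  have hOW₁ : O ⊆ W₁ := fun x hx => GrpdLib.mem_invCore.2 fun r hr =>
    hOA _ (hO.mem_toFinset.2 (horb r (hr ▸ hx)))
  let j : G'.U ⟶ Spec Γ(G.U, A) := G.U.homOfLE (GrpdLib.invCore_le A) ≫ hA.isoSpec.hom
  haveI : IsOpenImmersion j := inferInstanceAs (IsOpenImmersion (_ ≫ _))
  obtain ⟨I, hI⟩ := (PrimeSpectrum.isClosed_iff_zeroLocus_ideal _).1
    j.isOpenEmbedding.isOpen_range.isClosed_compl
  let O' : Set G'.U := W₁.ι ⁻¹' O
  have hres : ∀ r : G'.R, (G'.s r).1 = G.s r.1 ∧ (G'.t r).1 = G.t r.1 := fun r =>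
    ⟨congrArg (fun φ => φ r) (GrpdLib.resS_ι G W₁), congrArg (fun φ => φ r) (GrpdLib.resT_ι G W₁ hW₁)⟩
  obtain ⟨h, -, haff, hsub, hinv'⟩ := GrpdLib.exists_invariant_basicOpen (G := G') O'
    (hO.preimage W₁.ι.isOpenEmbedding.injective.injOn)
    (fun r hr => by
      show (G'.t r).1 ∈ O
      have h1 : (G'.s r).1 ∈ O := hr
      rw [(hres r).1] at h1
      rw [(hres r).2]
      exact horb _ h1)
    (fun x hx y hy => W₁.ι.isOpenEmbedding.injective (hmax _ hx _ (hy.map W₁.ι.continuous)))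
    Γ(G.U, A) j I (fun x hx => by rw [← hI] at hx; exact hx ⟨x, rfl⟩)
    (by rw [← hI, Set.compl_union_self]; exact isClosed_univ)
  refine ⟨W₁.ι ''ᵁ (j ⁻¹ᵁ PrimeSpectrum.basicOpen h), haff.image_of_isOpenImmersion _,
    fun x hx => ⟨⟨x, hOW₁ hx⟩, hsub hx, rfl⟩, ?_, ?_⟩
  · refine GrpdLib.isInv_of_mem fun r hr => ?_
    obtain ⟨x, hx, e⟩ := hr
    have hrW : r ∈ G.s ⁻¹ᵁ W₁ := by
      show G.s r ∈ W₁
      rw [← e]; exact x.2
    have hs' : G'.s ⟨r, hrW⟩ = x := Subtype.ext (((hres ⟨r, hrW⟩).1).trans e.symm)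
    exact ⟨G'.t ⟨r, hrW⟩, (hinv'.mem_iff _).1 (by rw [hs']; exact hx), (hres ⟨r, hrW⟩).2⟩
  · rintro _ ⟨x, -, rfl⟩
    exact hAW (GrpdLib.invCore_le A x.2)

theorem exists_invariant_affine_thickening [QuasiSeparatedSpace G.U] (m : ℕ) (u : Fin m → G.U)
    (hu : ∀ i (r : G.R), G.s r = u i → ∀ x : G.U, x ⤳ G.t r → x = G.t r) :
    ∃ (V : G.U.Opens) (V' : (↑V : Scheme.{u}).IdealSheafData), IsAffineOpen V ∧ (∀ i, u i ∈ V) ∧
      G.s ⁻¹ᵁ V = G.t ⁻¹ᵁ V ∧ V'.support = ⊤ ∧ LocallyOfFinitePresentation V'.subschemeι ∧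
      (∃ φ : pullback G.s (V'.subschemeι ≫ V.ι) ≅ pullback G.t (V'.subschemeι ≫ V.ι),
        φ.hom ≫ pullback.fst G.t (V'.subschemeι ≫ V.ι) = pullback.fst G.s (V'.subschemeι ≫ V.ι)) ∧
      Mor2.IsFinLocFree (pullback.snd G.s (V'.subschemeι ≫ V.ι)) ∧
      Mor2.IsFinLocFree (pullback.snd G.t (V'.subschemeι ≫ V.ι)) := by
  obtain ⟨V, hV, hOV, hVinv, hVW⟩ := exists_invariant_affine_le G (W G) (W_invariant G)
    (G.t '' (G.s ⁻¹' Set.range u))
    (((Set.finite_range u).preimage' fun x _ => G.s.finite_preimage_singleton x).image _)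
    (fun r hr => by
      obtain ⟨r', ⟨i, hi⟩, e⟩ := hr
      obtain ⟨r'', h₁, h₂⟩ := GrpdLib.exists_comp G r r' e.symm
      exact ⟨r'', ⟨i, hi.trans h₂.symm⟩, h₁⟩)
    (fun x hx y hy => by
      obtain ⟨r, ⟨i, hi⟩, rfl⟩ := hx
      exact hu i r hi.symm y hy)
    (fun x hx => by
      obtain ⟨r, ⟨i, hi⟩, rfl⟩ := hx
      exact ((GrpdLib.IsInv.mem_iff (W_invariant G) r).1
        (hi ▸ mem_W_of_generic G (u i) (hu i))))
  have hg : V ≤ goodOpen G := hVW.trans (W_le G)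
  exact ⟨V, W' G V, hV,
    fun i => hOV ⟨G.e (u i), ⟨i, by rw [← Scheme.Hom.comp_apply, G.e_s]; rfl⟩,
      by rw [← Scheme.Hom.comp_apply, G.e_t]; rfl⟩,
    hVinv, support_W' G V hg, lfp_W' G V hg, exists_iso_W' G V hg hVinv, isFinLocFree_snd_s G V hg,
    isFinLocFree_snd_t G _ (isFinLocFree_snd_s G V hg)⟩

end Groth.Agent.GrpdFitt
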