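import Groth.Agent.GrpdFitt.LocFree
import Groth.Agent.GrpdFld.Shear
import Groth.Agent.GrpdLib.OrbitTop

/-!
# The invariant Fitting stratification of a finite groupoid
-/

set_option autoImplicit false
set_option backward.isDefEq.respectTransparency false
set_option backward.isDefEq.respectTransparency.types false
set_option linter.style.haveILetI false

universe u

open CategoryTheory CategoryTheory.Limits AlgebraicGeometry TopologicalSpace Grpd

namespace Groth.Agent.GrpdFitt

/-- Equal ideal sheaves define isomorphic subschemes over the ambient scheme. -/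
theorem exists_subschemeIso {X : Scheme.{u}} {J K : X.IdealSheafData} (h : J = K) :
    ∃ e : J.subscheme ≅ K.subscheme, e.hom ≫ K.subschemeι = J.subschemeι := by
  subst h; exact ⟨Iso.refl _, by simp⟩

/-- An ideal sheaf with equal pullbacks along two maps gives isomorphic pullbacks of its subscheme. -/
theorem exists_pullbackIso {X Y : Scheme.{u}} {f g : X ⟶ Y} {I : Y.IdealSheafData}
    (h : I.comap f = I.comap g) :
    ∃ φ : pullback f I.subschemeι ≅ pullback g I.subschemeι,
      φ.hom ≫ pullback.fst g I.subschemeι = pullback.fst f I.subschemeι := by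
  obtain ⟨e, he⟩ := exists_subschemeIso h
  exact ⟨(I.comapIso f).symm ≪≫ e ≪≫ I.comapIso g, by simp [he]⟩

variable {S : Scheme.{u}} (G : GroupoidScheme S) [IsFinite G.s] [IsFinite G.t]

/-- The Fitting ideal sheaves of the source map of a groupoid. -/
abbrev Z (r : ℕ) : G.U.IdealSheafData := fittMor G.s r

theorem comap_Z (r : ℕ) : (Z G r).comap G.s = (Z G r).comap G.t :=
  (fittMor_comap G.s (GrpdFld.isPullback_c G) r).trans
    (fittMor_comap G.s (IsPullback.of_hasPullback G.s G.t) r).symm

theorem monotone_Z : Monotone (Z G) := fun _ _ h => fittMor_mono G.s h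

theorem Z_zero : Z G 0 = ⊥ := fittMor_zero G.s G.e G.e_s

theorem iInter_support_Z : (⋂ r, ((Z G r).support : Set G.U)) = ∅ := by
  refine Set.eq_empty_iff_forall_notMem.2 fun x hx => ?_
  obtain ⟨r, hr⟩ := exists_not_mem_support G.s x
  exact hr (Set.mem_iInter.1 hx r)

theorem mem_support_Z_iff (r : ℕ) (a : G.R) :
    G.s a ∈ (Z G r).support ↔ G.t a ∈ (Z G r).support := by
  have h := congrArg (fun K : G.R.IdealSheafData => a ∈ K.support) (comap_Z G r)
  simp only [Scheme.IdealSheafData.support_comap] at h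
  exact iff_of_eq h

/-- Over a scheme on which `Z r` is zero and `Z (r + 1)` is one, the source is finite locally free of
degree `r + 1`. -/
theorem isFinLocFreeOfDeg_snd (r : ℕ) {T : Scheme.{u}} (f : T ⟶ G.U) (h0 : (Z G r).comap f = ⊥)
    (h1 : ∀ x, f x ∉ (Z G (r + 1)).support) :
    Mor2.IsFinLocFreeOfDeg (r + 1) (pullback.snd G.s f) := by
  have hk : ∀ k, (Z G k).comap f = fittMor (pullback.snd G.s f) k := fun k =>
    fittMor_comap G.s (IsPullback.of_hasPullback G.s f) k
  refine isFinLocFreeOfDeg _ (fun k hk' => ?_) ?_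
  · rw [← hk, ← le_bot_iff, ← h0]
    exact Scheme.IdealSheafData.comap_mono f (monotone_Z G (Nat.lt_succ_iff.1 hk'))
  · rw [← hk, ← Scheme.IdealSheafData.support_eq_bot_iff, Scheme.IdealSheafData.support_comap]
    refine SetLike.ext fun x => ⟨fun h => (h1 x h).elim, fun h => h.elim⟩

theorem exists_stratification :
    ∃ Z : ℕ → G.U.IdealSheafData, Z 0 = ⊥ ∧ Monotone Z ∧ (⋂ r, ((Z r).support : Set G.U)) = ∅ ∧
      (∀ r, ∃ φ : pullback G.s (Z r).subschemeι ≅ pullback G.t (Z r).subschemeι,
        φ.hom ≫ pullback.fst G.t (Z r).subschemeι = pullback.fst G.s (Z r).subschemeι) ∧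
      ∀ r, Mor2.IsFinLocFreeOfDeg (r + 1)
        (pullback.snd G.s (((Z r).subschemeι ⁻¹ᵁ (Z (r + 1)).support.compl).ι ≫ (Z r).subschemeι)) := by
  refine ⟨Z G, Z_zero G, monotone_Z G, iInter_support_Z G, fun r => exists_pullbackIso (comap_Z G r),
    fun r => isFinLocFreeOfDeg_snd G r _ ?_ fun x => x.2⟩
  rw [Scheme.IdealSheafData.comap_comp]
  have : (Z G r).comap (Z G r).subschemeι = ⊥ :=
    le_bot_iff.1 ((Scheme.IdealSheafData.le_map_iff_comap_le).1
      (by rw [Scheme.IdealSheafData.map_bot, Scheme.IdealSheafData.ker_subschemeι]))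
  rw [this, Scheme.IdealSheafData.comap_bot]

end Groth.Agent.GrpdFitt
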