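import Groth.Agent.GrpdFitt.Strata
import Groth.Agent.GrpdLib.DegDecomp
import Groth.Agent.MorLib.IdealFG
import Groth.Agent.DescLib.IdealDescent

/-!
# An invariant thickening over which a finite groupoid is finite locally free
-/

set_option autoImplicit false
set_option backward.isDefEq.respectTransparency false
set_option backward.isDefEq.respectTransparency.types false
set_option linter.style.haveILetI false
set_option linter.unusedSectionVars false

universe u

open CategoryTheory CategoryTheory.Limits AlgebraicGeometry TopologicalSpace Grpd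

namespace Groth.Agent.GrpdFitt

noncomputable section

variable {S : Scheme.{u}} (G : GroupoidScheme S) [IsFinite G.s] [IsFinite G.t]

/-- The `r`th stratum, as a set. -/
def stratum (r : ℕ) : Set G.U := ((Z G r).support : Set G.U) \ (Z G (r + 1)).support

/-- The open part of the `r`th stratum. -/
def opStratum (r : ℕ) : G.U.Opens :=
  ⟨interior ((Z G r).support : Set G.U) ∩ ((Z G (r + 1)).support : Set G.U)ᶜ,
    isOpen_interior.inter (Z G (r + 1)).support.isClosed.isOpen_compl⟩

theorem opStratum_subset (r : ℕ) : (opStratum G r : Set G.U) ⊆ stratum G r :=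
  fun _ h => ⟨interior_subset h.1, h.2⟩

theorem exists_mem_stratum (x : G.U) : ∃ r, x ∈ stratum G r := by
  have h0 : x ∈ (Z G 0).support := by rw [Z_zero, Scheme.IdealSheafData.support_bot]; trivial
  by_contra hc
  simp only [not_exists, stratum, Set.mem_diff, SetLike.mem_coe, not_and, not_not] at hc
  have hall : ∀ m, x ∈ (Z G m).support := fun m => by
    induction m with
    | zero => exact h0
    | succ m ih => exact hc m ih
  obtain ⟨m, hm⟩ := exists_not_mem_support G.s x
  exact hm (hall m)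

theorem support_Z_antitone {k l : ℕ} (h : k ≤ l) :
    ((Z G l).support : Set G.U) ⊆ (Z G k).support :=
  Scheme.IdealSheafData.support_antitone (monotone_Z G h)

theorem stratum_unique {x : G.U} {r m : ℕ} (hr : x ∈ stratum G r) (hm : x ∈ stratum G m) : r = m := by
  rcases lt_trichotomy r m with h | h | h
  · exact absurd (support_Z_antitone G (Nat.succ_le_of_lt h) hm.1) hr.2
  · exact h
  · exact absurd (support_Z_antitone G (Nat.succ_le_of_lt h) hr.1) hm.2

theorem mem_stratum_iff (r : ℕ) (a : G.R) : G.s a ∈ stratum G r ↔ G.t a ∈ stratum G r :=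
  and_congr (mem_support_Z_iff G r a) (not_congr (mem_support_Z_iff G (r + 1) a))

/-- The union of the open parts of the strata. -/
def goodOpen : G.U.Opens := ⨆ r, opStratum G r

/-- The points all of whose translates lie in open parts of strata. -/
def W : G.U.Opens :=
  ⟨(G.s '' (G.t ⁻¹' (goodOpen G : Set G.U)ᶜ))ᶜ,
    (G.s.isClosedMap _ ((goodOpen G).isOpen.isClosed_compl.preimage G.t.continuous)).isOpen_compl⟩

theorem mem_W (x : G.U) : x ∈ W G ↔ ∀ a : G.R, G.s a = x → G.t a ∈ goodOpen G :=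
  ⟨fun h a ha => by_contra fun hn => h ⟨a, hn, ha⟩, fun h ⟨a, hn, ha⟩ => hn (h a ha)⟩

theorem W_le : W G ≤ goodOpen G := fun x hx => by
  have h1 : G.s (G.e x) = x := by rw [← Scheme.Hom.comp_apply, G.e_s]; rfl
  have h2 : G.t (G.e x) = x := by rw [← Scheme.Hom.comp_apply, G.e_t]; rfl
  exact h2 ▸ (mem_W G x).1 hx (G.e x) h1

theorem W_invariant : G.s ⁻¹ᵁ W G = G.t ⁻¹ᵁ W G := by
  refine SetLike.ext fun a => ⟨fun h => ?_, fun h => ?_⟩
  · refine (mem_W G _).2 fun b hb => ?_
    obtain ⟨r, hr₁, hr₂⟩ := GrpdLib.exists_comp G b a hb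
    exact hr₁ ▸ (mem_W G _).1 h r hr₂
  · refine (mem_W G _).2 fun b hb => ?_
    obtain ⟨a', ha₁, ha₂⟩ := GrpdLib.exists_inv G a
    obtain ⟨r, hr₁, hr₂⟩ := GrpdLib.exists_comp G b a' (hb.trans ha₁.symm)
    exact hr₁ ▸ (mem_W G _).1 h r (hr₂.trans ha₂)

theorem exists_t_eq_s_mem_closure (u : G.U) : ∃ r : G.R, G.t r = u ∧ G.s r ∈ closure (W G : Set G.U) := by
  classical
  let E := GrpdLib.sat G (closure (W G : Set G.U))
  have hE : IsClosed E := G.t.isClosedMap _ (isClosed_closure.preimage G.s.continuous)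
  have hWE : (W G : Set G.U) ⊆ E := fun x hx => by
    refine ⟨G.e x, ?_, by rw [← Scheme.Hom.comp_apply, G.e_t]; rfl⟩
    show G.s (G.e x) ∈ closure (W G : Set G.U)
    rw [← Scheme.Hom.comp_apply, G.e_s]
    exact subset_closure hx
  suffices h : u ∈ E by
    obtain ⟨r, hr, e⟩ := h
    exact ⟨r, e, hr⟩
  by_contra hu
  have hex : ∃ r x, x ∉ E ∧ x ∈ stratum G r := by
    obtain ⟨r, hr⟩ := exists_mem_stratum G u
    exact ⟨r, u, hu, hr⟩
  obtain ⟨x, hxE, hx⟩ := Nat.find_spec hex
  have hsub : Eᶜ ⊆ ((Z G (Nat.find hex)).support : Set G.U) := fun y hy => by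
    obtain ⟨m, hm⟩ := exists_mem_stratum G y
    exact support_Z_antitone G (Nat.find_min' hex ⟨y, hy, hm⟩) hm.1
  refine hxE (hWE ((mem_W G x).2 fun a ha => ?_))
  have htE : G.t a ∉ E := fun h => hxE (ha ▸ (GrpdLib.mem_sat_iff G _ a).2 h)
  have ht : G.t a ∈ stratum G (Nat.find hex) := (mem_stratum_iff G _ a).1 (ha ▸ hx)
  exact le_iSup (opStratum G) (Nat.find hex)
    ⟨interior_maximal hsub hE.isOpen_compl htE, ht.2⟩

variable (V : G.U.Opens)

/-- The piece of an open in the `r`th stratum. -/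
def piece (r : ℕ) : V.toScheme.Opens := V.ι ⁻¹ᵁ opStratum G r

theorem mem_piece (hV : V ≤ goodOpen G) (r : ℕ) (x : V.toScheme) :
    x ∈ piece G V r ↔ V.ι x ∈ stratum G r := by
  refine ⟨fun h => opStratum_subset G r h, fun h => ?_⟩
  obtain ⟨m, hm⟩ := Opens.mem_iSup.1 (hV x.2)
  obtain rfl := stratum_unique G (opStratum_subset G m hm) h
  exact hm

theorem exists_mem_piece (hV : V ≤ goodOpen G) (x : V.toScheme) : ∃ r, x ∈ piece G V r := by
  obtain ⟨r, hr⟩ := exists_mem_stratum G (V.ι x)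
  exact ⟨r, (mem_piece G V hV r x).2 hr⟩

theorem isClosed_piece (hV : V ≤ goodOpen G) (r : ℕ) : IsClosed (piece G V r : Set V.toScheme) := by
  refine ⟨?_⟩
  have : (piece G V r : Set V.toScheme)ᶜ = ⋃ m ∈ {m | m ≠ r}, (piece G V m : Set V.toScheme) := by
    ext x
    constructor
    · intro hx
      obtain ⟨m, hm⟩ := exists_mem_piece G V hV x
      exact Set.mem_biUnion (x := m) (fun e => hx (e ▸ hm)) hm
    · intro hx h
      obtain ⟨m, hne, hm⟩ := Set.mem_iUnion₂.1 hx
      exact hne (stratum_unique G ((mem_piece G V hV m x).1 hm) ((mem_piece G V hV r x).1 h))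
  rw [this]
  exact isOpen_biUnion fun m _ => (piece G V m).isOpen

theorem isClosedImmersion_piece (hV : V ≤ goodOpen G) (r : ℕ) : IsClosedImmersion (piece G V r).ι :=
  .of_isPreimmersion _ (by rw [Scheme.Opens.range_ι]; exact isClosed_piece G V hV r)

/-- The thickened subscheme of an open contained in the open parts of the strata. -/
def W' : V.toScheme.IdealSheafData :=
  ⨅ r, ((Z G r).comap ((piece G V r).ι ≫ V.ι)).map (piece G V r).ι

theorem comap_W' (hV : V ≤ goodOpen G) (r : ℕ) :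
    (W' G V).comap (piece G V r).ι = (Z G r).comap ((piece G V r).ι ≫ V.ι) := by
  haveI := isClosedImmersion_piece G V hV r
  refine le_antisymm ?_ ?_
  · refine (Scheme.IdealSheafData.comap_mono _ (iInf_le _ r)).trans ?_
    exact Scheme.IdealSheafData.comap_map_le _ _
  · let Q : V.toScheme.Opens := ⟨(piece G V r : Set V.toScheme)ᶜ, (isClosed_piece G V hV r).isOpen_compl⟩
    haveI : IsClosedImmersion Q.ι :=
      .of_isPreimmersion _ (by rw [Scheme.Opens.range_ι]; exact (piece G V r).isOpen.isClosed_compl)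
    have hle : ((Z G r).comap ((piece G V r).ι ≫ V.ι)).map (piece G V r).ι ⊓ Q.ι.ker ≤ W' G V := by
      refine le_iInf fun m => ?_
      by_cases h : m = r
      · subst h; exact inf_le_left
      · have hmQ : piece G V m ≤ Q := fun x hx hx' =>
          h (stratum_unique G ((mem_piece G V hV m x).1 hx) ((mem_piece G V hV r x).1 hx'))
        refine inf_le_right.trans (le_trans ?_ (Scheme.IdealSheafData.map_mono _ bot_le))
        show Q.ι.ker ≤ Scheme.IdealSheafData.map ⊥ (piece G V m).ι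
        rw [Scheme.IdealSheafData.map_bot, ← Scheme.homOfLE_ι _ hmQ]
        exact Scheme.Hom.le_ker_comp _ _
    refine le_trans ?_ (Scheme.IdealSheafData.comap_mono _ hle)
    show _ ≤ Scheme.IdealSheafData.comap (_ ⊓ _) (piece G V r).ι
    rw [MorLib.IdealFG.comap_inf, MorLib.IdealFG.comap_map_self]
    refine le_inf le_rfl ?_
    have : Q.ι.ker.comap (piece G V r).ι = ⊤ := by
      rw [← Scheme.IdealSheafData.support_eq_bot_iff, Scheme.IdealSheafData.support_comap]
      refine SetLike.ext fun x => ⟨fun h => ?_, fun h => False.elim h⟩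
      have h' : (piece G V r).ι x ∈ closure (Set.range Q.ι) := by
        rw [← Scheme.Hom.support_ker]; exact h
      rw [Scheme.Opens.range_ι] at h'
      change (piece G V r).ι x ∈ closure ((piece G V r : Set V.toScheme)ᶜ) at h'
      rw [(piece G V r).isOpen.isClosed_compl.closure_eq] at h'
      exact (h' x.2).elim
    rw [this]; exact le_top

theorem comap_W'_of_range (hV : V ≤ goodOpen G) {r : ℕ} {T : Scheme.{u}} (f : T ⟶ V.toScheme) (h : ∀ x, f x ∈ piece G V r) :
    (W' G V).comap f = (Z G r).comap (f ≫ V.ι) := by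
  have hr : Set.range f ⊆ Set.range (piece G V r).ι := by
    rw [Scheme.Opens.range_ι]; rintro _ ⟨x, rfl⟩; exact h x
  rw [← IsOpenImmersion.lift_fac (piece G V r).ι f hr, Category.assoc, Scheme.IdealSheafData.comap_comp,
    Scheme.IdealSheafData.comap_comp _ _ ((piece G V r).ι ≫ V.ι), comap_W' G V hV]

theorem support_W' (hV : V ≤ goodOpen G) : (W' G V).support = ⊤ := by
  refine top_le_iff.1 fun x _ => ?_
  obtain ⟨r, hr⟩ := exists_mem_piece G V hV x
  have h : (⟨x, hr⟩ : (piece G V r).toScheme) ∈ ((W' G V).comap (piece G V r).ι).support := by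
    rw [comap_W' G V hV, Scheme.IdealSheafData.support_comap]
    exact ((mem_piece G V hV r x).1 hr).1
  rw [Scheme.IdealSheafData.support_comap] at h
  exact h

theorem isPullback_resLE_of_eq {X Y : Scheme.{u}} (f : X ⟶ Y) (V : Y.Opens) (U : X.Opens) (h : U = f ⁻¹ᵁ V) :
    IsPullback U.ι (f.resLE V U h.le) f V.ι := by
  subst h
  rw [Scheme.Hom.resLE_eq_morphismRestrict]
  exact (isPullback_morphismRestrict f V).flip

theorem comap_W'_res (hV : V ≤ goodOpen G) (hinv : G.s ⁻¹ᵁ V = G.t ⁻¹ᵁ V) :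
    (W' G V).comap (G.s.resLE V (G.s ⁻¹ᵁ V) le_rfl) =
      (W' G V).comap (G.t.resLE V (G.s ⁻¹ᵁ V) hinv.le) := by
  set s' := G.s.resLE V (G.s ⁻¹ᵁ V) le_rfl
  set t' := G.t.resLE V (G.s ⁻¹ᵁ V) hinv.le
  have hs : s' ≫ V.ι = (G.s ⁻¹ᵁ V).ι ≫ G.s := Scheme.Hom.resLE_comp_ι _ _
  have ht : t' ≫ V.ι = (G.s ⁻¹ᵁ V).ι ≫ G.t := Scheme.Hom.resLE_comp_ι _ _
  refine DescLib.eq_of_cover ((G.s ⁻¹ᵁ V).toScheme.openCoverOfIsOpenCover (fun r => s' ⁻¹ᵁ piece G V r)
    (top_le_iff.1 fun x _ => Opens.mem_iSup.2 (exists_mem_piece G V hV (s' x)))) fun r => ?_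
  rw [← Scheme.IdealSheafData.comap_comp, ← Scheme.IdealSheafData.comap_comp,
    comap_W'_of_range G V hV (r := r) _ fun x => ?_, comap_W'_of_range G V hV (r := r) _ fun x => ?_,
    Category.assoc, Category.assoc, hs, ht, Scheme.IdealSheafData.comap_comp,
    Scheme.IdealSheafData.comap_comp _ _ G.s, comap_Z G r,
    Scheme.IdealSheafData.comap_comp, Scheme.IdealSheafData.comap_comp _ _ G.t]
  · have h1 := (mem_piece G V hV r _).1 (show s' x.1 ∈ piece G V r from x.2)
    rw [← Scheme.Hom.comp_apply, hs, Scheme.Hom.comp_apply, mem_stratum_iff] at h1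
    refine (mem_piece G V hV r (t' x.1)).2 ?_
    rw [← Scheme.Hom.comp_apply, ht, Scheme.Hom.comp_apply]
    exact h1
  · exact x.2

theorem exists_iso_W' (hV : V ≤ goodOpen G) (hinv : G.s ⁻¹ᵁ V = G.t ⁻¹ᵁ V) :
    ∃ φ : pullback G.s ((W' G V).subschemeι ≫ V.ι) ≅ pullback G.t ((W' G V).subschemeι ≫ V.ι),
      φ.hom ≫ pullback.fst G.t ((W' G V).subschemeι ≫ V.ι) =
        pullback.fst G.s ((W' G V).subschemeι ≫ V.ι) := by
  obtain ⟨φ, hφ⟩ := exists_pullbackIso (comap_W'_res G V hV hinv)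
  have hs := (IsPullback.of_hasPullback (G.s.resLE V (G.s ⁻¹ᵁ V) le_rfl) (W' G V).subschemeι).paste_horiz
    (isPullback_resLE_of_eq G.s V _ rfl)
  have ht := (IsPullback.of_hasPullback (G.t.resLE V (G.s ⁻¹ᵁ V) hinv.le)
    (W' G V).subschemeι).paste_horiz (isPullback_resLE_of_eq G.t V _ hinv)
  refine ⟨hs.isoPullback.symm ≪≫ φ ≪≫ ht.isoPullback, ?_⟩
  simp only [Iso.trans_hom, Iso.symm_hom, Category.assoc, IsPullback.isoPullback_hom_fst,
    reassoc_of% hφ, IsPullback.isoPullback_inv_fst]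

theorem isFinLocFree_snd_s (hV : V ≤ goodOpen G) : Mor2.IsFinLocFree (pullback.snd G.s ((W' G V).subschemeι ≫ V.ι)) := by
  set j := (W' G V).subschemeι
  have hcov : ⨆ r, j ⁻¹ᵁ piece G V r = ⊤ :=
    top_le_iff.1 fun x _ => Opens.mem_iSup.2 (exists_mem_piece G V hV (j x))
  have hpiece : ∀ r, Mor2.IsFinLocFree (pullback.snd G.s ((j ⁻¹ᵁ piece G V r).ι ≫ j ≫ V.ι)) := by
    intro r
    refine (isFinLocFreeOfDeg_snd G r _ ?_
      fun (x : (j ⁻¹ᵁ piece G V r).toScheme) => ((mem_piece G V hV r (j x.1)).1 x.2).2).1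
    rw [← Category.assoc, ← comap_W'_of_range G V hV (r := r) ((j ⁻¹ᵁ piece G V r).ι ≫ j) (fun x => x.2), Scheme.IdealSheafData.comap_comp]
    have : (W' G V).comap j = ⊥ :=
      le_bot_iff.1 ((Scheme.IdealSheafData.le_map_iff_comap_le).1
        (by rw [Scheme.IdealSheafData.map_bot, Scheme.IdealSheafData.ker_subschemeι]))
    rw [this, Scheme.IdealSheafData.comap_bot]
  have key : ∀ (P : MorphismProperty Scheme.{u}) [IsZariskiLocalAtTarget P] [P.RespectsIso],
      (∀ r, P (pullback.snd G.s ((j ⁻¹ᵁ piece G V r).ι ≫ j ≫ V.ι))) →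
        P (pullback.snd G.s (j ≫ V.ι)) := by
    intro P _ _ h
    refine IsZariskiLocalAtTarget.of_openCover
      ((W' G V).subscheme.openCoverOfIsOpenCover (fun r => j ⁻¹ᵁ piece G V r) hcov) fun r => ?_
    show P (pullback.snd (pullback.snd G.s (j ≫ V.ι)) (j ⁻¹ᵁ piece G V r).ι)
    rw [← pullbackLeftPullbackSndIso_hom_snd G.s (j ≫ V.ι) (j ⁻¹ᵁ piece G V r).ι,
      P.cancel_left_of_respectsIso]
    exact h r
  exact ⟨key @IsFinite fun r => (hpiece r).1, key @Flat fun r => (hpiece r).2.1,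
    key @LocallyOfFinitePresentation fun r => (hpiece r).2.2⟩

theorem isFinLocFree_snd_t {T : Scheme.{u}} (f : T ⟶ G.U) (h : Mor2.IsFinLocFree (pullback.snd G.s f)) :
    Mor2.IsFinLocFree (pullback.snd G.t f) := by
  haveI : IsIso G.i := ⟨G.i, GrpdLib.i_i G, GrpdLib.i_i G⟩
  have sq : IsPullback G.i G.t G.s (𝟙 G.U) :=
    IsPullback.of_horiz_isIso ⟨by rw [G.i_s, Category.comp_id]⟩
  have h2 : IsPullback (pullback.fst G.t f ≫ G.i) (pullback.snd G.t f) G.s f := by
    simpa using (IsPullback.of_hasPullback G.t f).paste_horiz sq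
  rw [← h2.isoPullback_hom_snd]
  obtain ⟨h1, h3, h4⟩ := h
  exact ⟨inferInstance, inferInstance, inferInstance⟩

end

end Groth.Agent.GrpdFitt
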