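import Groth.Agent.GrpdFitt.Thicken

/-!
# The thickening for a finitely presented finite groupoid
-/

set_option autoImplicit false
set_option backward.isDefEq.respectTransparency false
set_option backward.isDefEq.respectTransparency.types false
set_option linter.style.haveILetI false
set_option linter.unusedSectionVars false

universe u

open CategoryTheory CategoryTheory.Limits AlgebraicGeometry TopologicalSpace Grpd

namespace Groth.Agent.GrpdFitt

theorem lfp_subschemeι {X : Scheme.{u}} (I : X.IdealSheafData)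
    (h : ∀ x : X, ∃ V : X.affineOpens, x ∈ V.1 ∧ (I.ideal V).FG) :
    LocallyOfFinitePresentation I.subschemeι := by
  choose V hxV hV using h
  refine IsZariskiLocalAtTarget.of_iSup_eq_top (P := @LocallyOfFinitePresentation) (fun x => (V x).1)
    (top_le_iff.1 fun x _ => Opens.mem_iSup.2 ⟨x, hxV x⟩) fun x => ?_
  have hpre := (V x).2.preimage I.subschemeι
  have hfp : (secMap I.subschemeι (V x).1).hom.FinitePresentation := by
    rw [secMap, ← Scheme.Hom.app_eq_appLE]
    exact RingHom.FinitePresentation.of_surjective _ (I.subschemeι_app_surjective (V x))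
      (by rw [Scheme.IdealSheafData.ker_subschemeι_app]; exact hV x)
  have sq := RingPO.isPullback_fromSpec' I.subschemeι (V x).2 hpre rfl
  have hw : (I.subschemeι ∣_ (V x).1) =
      hpre.isoSpec.hom ≫ Spec.map (secMap I.subschemeι (V x).1) ≫ (V x).2.isoSpec.inv := by
    rw [← cancel_mono (V x).1.ι]
    simp only [Category.assoc, morphismRestrict_ι, IsAffineOpen.isoSpec_inv_ι]
    rw [← sq.w, ← IsAffineOpen.isoSpec_inv_ι, Category.assoc, hpre.isoSpec.hom_inv_id_assoc]
  rw [hw, MorphismProperty.cancel_left_of_respectsIso @LocallyOfFinitePresentation,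
    MorphismProperty.cancel_right_of_respectsIso @LocallyOfFinitePresentation]
  exact (LocallyOfFinitePresentation.SpecMap_iff _).2 hfp

variable {S : Scheme.{u}} (G : GroupoidScheme S) [IsFinite G.s] [IsFinite G.t]

theorem lfp_W' [LocallyOfFinitePresentation G.s] (V : G.U.Opens) (hV : V ≤ goodOpen G) :
    LocallyOfFinitePresentation (W' G V).subschemeι := by
  refine lfp_subschemeι _ fun x => ?_
  obtain ⟨r, hr⟩ := exists_mem_piece G V hV x
  obtain ⟨A, hA, hxA, hAP⟩ := exists_isAffineOpen_mem_and_subset hr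
  refine ⟨⟨A, hA⟩, hxA, ?_⟩
  rw [MorLib.IdealFG.eq_of_comap_eq (J := (Z G r).comap V.ι)
    (by rw [← Scheme.IdealSheafData.comap_comp, comap_W' G V hV]) (U := ⟨A, hA⟩) hAP]
  rw [ModPairLib.ideal_comap _ V.ι ⟨V.ι ''ᵁ A, hA.image_of_isOpenImmersion _⟩ ⟨A, hA⟩
    (by rw [Scheme.Hom.preimage_image_eq])]
  exact (fg_fittMor G.s r _).map _

theorem mem_interior_support [LocallyOfFinitePresentation G.s] (r : ℕ) {y : G.U}
    (hy : y ∈ (Z G r).support) (hgen : ∀ x, x ⤳ y → x = y) :
    y ∈ interior ((Z G r).support : Set G.U) := by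
  classical
  obtain ⟨V, hV, hyV, -⟩ := exists_isAffineOpen_mem_and_subset (show y ∈ (⊤ : G.U.Opens) from trivial)
  set q := hV.primeIdealOf ⟨y, hyV⟩ with hq
  have hI := (mem_support_fittMor G.s r hV hyV).1 hy
  have hnil : ∀ g ∈ q.asIdeal, ∃ (f : Γ(G.U, V)) (n : ℕ), f ∉ q.asIdeal ∧ f * g ^ n = 0 := by
    intro g hg
    have : IsNilpotent (algebraMap Γ(G.U, V) (Localization.AtPrime q.asIdeal) g) := by
      refine nilpotent_iff_mem_prime.2 fun J hJ => ?_
      let p : PrimeSpectrum Γ(G.U, V) := ⟨J.comap (algebraMap _ _), hJ.comap _⟩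
      have hle : p.asIdeal ≤ q.asIdeal := by
        intro a ha
        by_contra hn
        exact hJ.ne_top (J.eq_top_of_isUnit_mem ha (IsLocalization.map_units _ (⟨a, hn⟩ : q.asIdeal.primeCompl)))
      have hspec : hV.fromSpec p = hV.fromSpec q := by
        rw [hq, hV.fromSpec_primeIdealOf]
        refine hgen _ ?_
        have h2 := ((PrimeSpectrum.le_iff_specializes p q).1 hle).map hV.fromSpec.continuous
        rw [hq, hV.fromSpec_primeIdealOf] at h2
        exact h2
      have : p = q := hV.fromSpec.isOpenEmbedding.injective hspec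
      show g ∈ p.asIdeal
      rw [this]; exact hg
    obtain ⟨n, hn⟩ := this
    rw [← map_pow, IsLocalization.map_eq_zero_iff q.asIdeal.primeCompl] at hn
    obtain ⟨⟨f, hf⟩, hfg⟩ := hn
    exact ⟨f, n, hf, hfg⟩
  obtain ⟨s, hs⟩ := fg_fittMor G.s r ⟨V, hV⟩
  have hsq : ∀ g ∈ s, g ∈ q.asIdeal := fun g hg => hI (by
    show g ∈ (fittMor G.s r).ideal ⟨V, hV⟩
    rw [← hs]; exact Ideal.subset_span hg)
  choose! f n hf hfg using fun g (hg : g ∈ s) => hnil g (hsq g hg)
  refine mem_interior.2 ⟨G.U.basicOpen (∏ g ∈ s, f g), fun z hz => ?_, (G.U.basicOpen _).isOpen, ?_⟩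
  · have hzV : z ∈ V := G.U.basicOpen_le _ hz
    refine (mem_support_fittMor G.s r hV hzV).2 ?_
    have hnot := (QCoh.mem_basicOpen_iff_notMem hV hzV _).1 hz
    show (fittMor G.s r).ideal ⟨V, hV⟩ ≤ _
    rw [← hs]
    refine Ideal.span_le.2 fun g hg => ?_
    have h1 : f g * g ^ n g ∈ (hV.primeIdealOf ⟨z, hzV⟩).asIdeal := by rw [hfg g hg]; exact zero_mem _
    rcases (hV.primeIdealOf ⟨z, hzV⟩).isPrime.mem_or_mem h1 with h | h
    · exact absurd (Ideal.mem_of_dvd _ (Finset.dvd_prod_of_mem f hg) h) hnot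
    · exact (hV.primeIdealOf ⟨z, hzV⟩).isPrime.mem_of_pow_mem _ h
  · refine (QCoh.mem_basicOpen_iff_notMem hV hyV _).2 fun h => ?_
    obtain ⟨g, hg, h'⟩ := q.isPrime.prod_mem_iff.1 h
    exact hf g hg h'

theorem mem_W_of_generic [LocallyOfFinitePresentation G.s] (u : G.U)
    (h : ∀ r : G.R, G.s r = u → ∀ x : G.U, x ⤳ G.t r → x = G.t r) : u ∈ W G := by
  refine (mem_W G u).2 fun a ha => ?_
  obtain ⟨r, hr⟩ := exists_mem_stratum G (G.t a)
  exact le_iSup (opStratum G) r ⟨mem_interior_support G r hr.1 (h a ha), hr.2⟩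

end Groth.Agent.GrpdFitt
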